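import Cfsg.Agent.Lib.Spor.He.EData

/-!
Checking slots of the certificate.
-/

namespace CfsgLib.Spor.He.E

open CfsgLib.PresCert

theorem slots_70 : cert.okRange 35840 512 = true := by decide +kernel

theorem slots_71 : cert.okRange 36352 512 = true := by decide +kernel

theorem slots_72 : cert.okRange 36864 512 = true := by decide +kernel

theorem slots_73 : cert.okRange 37376 512 = true := by decide +kernel

theorem slots_74 : cert.okRange 37888 512 = true := by decide +kernel

theorem slots_75 : cert.okRange 38400 512 = true := by decide +kernel

theorem slots_76 : cert.okRange 38912 512 = true := by decide +kernel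

end CfsgLib.Spor.He.E
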