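import Cfsg.Agent.Lib.Spor.He.EData

/-!
Checking slots of the certificate.
-/

namespace CfsgLib.Spor.He.E

open CfsgLib.PresCert

theorem slots_77 : cert.okRange 39424 512 = true := by decide +kernel

theorem slots_78 : cert.okRange 39936 512 = true := by decide +kernel

theorem slots_79 : cert.okRange 40448 512 = true := by decide +kernel

theorem slots_80 : cert.okRange 40960 512 = true := by decide +kernel

theorem slots_81 : cert.okRange 41472 512 = true := by decide +kernel

theorem slots_82 : cert.okRange 41984 512 = true := by decide +kernel

theorem slots_83 : cert.okRange 42496 512 = true := by decide +kernel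

end CfsgLib.Spor.He.E
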