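import Cfsg.Agent.Lib.Spor.He.EData

/-!
Checking slots of the certificate.
-/

namespace CfsgLib.Spor.He.E

open CfsgLib.PresCert

theorem slots_84 : cert.okRange 43008 512 = true := by decide +kernel

theorem slots_85 : cert.okRange 43520 512 = true := by decide +kernel

theorem slots_86 : cert.okRange 44032 512 = true := by decide +kernel

theorem slots_87 : cert.okRange 44544 512 = true := by decide +kernel

theorem slots_88 : cert.okRange 45056 512 = true := by decide +kernel

theorem slots_89 : cert.okRange 45568 512 = true := by decide +kernel

theorem slots_90 : cert.okRange 46080 512 = true := by decide +kernel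

end CfsgLib.Spor.He.E
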