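import Cfsg.Agent.Lib.Spor.He.EData

/-!
Checking slots of the certificate.
-/

namespace CfsgLib.Spor.He.E

open CfsgLib.PresCert

theorem slots_28 : cert.okRange 14336 512 = true := by decide +kernel

theorem slots_29 : cert.okRange 14848 512 = true := by decide +kernel

theorem slots_30 : cert.okRange 15360 512 = true := by decide +kernel

theorem slots_31 : cert.okRange 15872 512 = true := by decide +kernel

theorem slots_32 : cert.okRange 16384 512 = true := by decide +kernel

theorem slots_33 : cert.okRange 16896 512 = true := by decide +kernel

theorem slots_34 : cert.okRange 17408 512 = true := by decide +kernel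

end CfsgLib.Spor.He.E
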