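import Cfsg.Agent.Lib.Spor.He.EData

/-!
Checking slots of the certificate.
-/

namespace CfsgLib.Spor.He.E

open CfsgLib.PresCert

theorem slots_63 : cert.okRange 32256 512 = true := by decide +kernel

theorem slots_64 : cert.okRange 32768 512 = true := by decide +kernel

theorem slots_65 : cert.okRange 33280 512 = true := by decide +kernel

theorem slots_66 : cert.okRange 33792 512 = true := by decide +kernel

theorem slots_67 : cert.okRange 34304 512 = true := by decide +kernel

theorem slots_68 : cert.okRange 34816 512 = true := by decide +kernel

theorem slots_69 : cert.okRange 35328 512 = true := by decide +kernel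

end CfsgLib.Spor.He.E
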