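import Cfsg.Agent.Lib.Spor.He.Central
import Cfsg.Agent.Lib.Spor.He.ECert
import Cfsg.Agent.Lib.Spor.He.PCert
import Cfsg.Agent.Lib.Spor.He.D1Cert
import Cfsg.Agent.Lib.Spor.He.D2Cert
import Cfsg.Agent.Lib.Spor.He.D3Cert
import Cfsg.Agent.Lib.Spor.He.D4Cert

/-!
The order of the presented Held group.
-/

namespace CfsgLib.Spor.He

open CfsgLib.PresCert Cfsg.Spor

theorem card_d : CardLE (lettersGroup [He.Gen.d] gen) (2 * 1) :=
  step_bound D4.valid [.d] [] (by simp) (by decide +kernel) (by decide +kernel)
    (by simpa [lettersGroup] using CardLE.bot)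

theorem card_de : CardLE (lettersGroup [He.Gen.d, .e] gen) 6 :=
  step_bound D3.valid [.d, .e] [.d] (by simp) (by decide +kernel) (by decide +kernel) card_d

theorem card_def : CardLE (lettersGroup [He.Gen.d, .e, .f] gen) 24 :=
  step_bound D2.valid [.d, .e, .f] [.d, .e] (by simp) (by decide +kernel) (by decide +kernel)
    card_de

theorem card_defg : CardLE (lettersGroup [He.Gen.d, .e, .f, .g] gen) 168 :=
  step_bound D1.valid [.d, .e, .f, .g] [.d, .e, .f] (by simp) (by decide +kernel)
    (by decide +kernel) card_def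

theorem card_six : CardLE (lettersGroup [He.Gen.a, .c, .d, .e, .f, .g] gen) 80640 := by
  have h := index_bound P.valid gen_sq gen_knownZ (sel := [He.Gen.a, .c, .d, .e, .f, .g])
    (subs := [He.Gen.d, .e, .f, .g].map fun x => [x]) (d := .a) (by decide +kernel)
    (by decide +kernel)
  rw [wordsGroup_singletons] at h
  refine card_defg.step (Subgroup.closure_mono ?_) h
  rintro _ ⟨x, hx, rfl⟩
  exact ⟨x, by revert hx; cases x <;> simp, rfl⟩

theorem card_all_le : CardLE (⊤ : Subgroup Cfsg.Spor.He) 4030387200 :=
  top_eq_lettersGroup (edges := He.edges) (extra := He.extra) allGens mem_allGens ▸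
    step_bound E.valid allGens [.a, .c, .d, .e, .f, .g] (fun x _ => mem_allGens x)
      (by decide +kernel) (by decide +kernel) card_six

theorem finite : Finite Cfsg.Spor.He := by
  have h := card_all_le.1
  rw [Subgroup.card_top] at h
  exact Nat.finite_of_card_ne_zero h

/-- The presented Held group has order `4030387200`. -/
theorem natCard : Nat.card Cfsg.Spor.He = 4030387200 := by
  have := finite
  refine le_antisymm ?_ ?_
  · have h := card_all_le.2
    rwa [Subgroup.card_top] at h
  · have h := le_card (edges := He.edges) (extra := He.extra) invol_ok wordsFor relNums_ok rels_covered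
      (fun k hk => ?_) words_ok Perm.levels levels_ok
    · have e : (Perm.levels.map Level.len).prod = 4030387200 := by decide +kernel
      rwa [e] at h
    · have hk' : k < 7 := hk
      interval_cases k
      exacts [⟨.a, rfl⟩, ⟨.b, rfl⟩, ⟨.c, rfl⟩, ⟨.d, rfl⟩, ⟨.e, rfl⟩, ⟨.f, rfl⟩, ⟨.g, rfl⟩]

end CfsgLib.Spor.He
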