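import Cfsg.Agent.Lib.Spor.He.PermData
import Cfsg.Agent.Lib.Spor.He.SevenData

/-!
Checks on the two elements of order seven.
-/

namespace CfsgLib.Spor.He

open CfsgLib.PresCert

theorem seven_u : allBelow 2058 (fun i =>
    Nat.beq (Perm.data.app [5, 6, 4, 3, 2, 5, 3, 5, 6, 3, 0, 2, 3, 1] i) (sevenData.img 0 i) &&
      Nat.beq (Perm.data.app [0] (sevenData.img 0 i)) (sevenData.img 1 i)) = true := by
  decide +kernel

theorem seven_pow : allBelow 2058 (fun i =>
    Nat.beq (sevenData.app (List.replicate 7 0) i) i &&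
      Nat.beq (sevenData.app (List.replicate 7 1) i) i) = true := by
  decide +kernel

end CfsgLib.Spor.He
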