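import Cfsg.Agent.Lib.Spor.He.Orbits
import Cfsg.Agent.Lib.Spor.He.Seven
import Cfsg.Agent.Lib.PresCert.Simple
import Cfsg.Agent.Lib.PresCert.SimplePow
import Cfsg.Prelude.Def_Sporadic

/-!
The presented Held group is simple.
-/

namespace CfsgLib.Spor.He

open CfsgLib.PresCert Cfsg.Spor

theorem cox {x y : He.Gen} : (gen x * gen y) ^ coxLabel He.edges x y = 1 :=
  pgen_cox (mem_nodes x) (mem_nodes y)

theorem word_one (w : List He.Gen) (h : w ∈ extraW) : (w.map gen).prod = 1 :=
  gen_known w (List.mem_append_right _ h)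

/-- A normal subgroup containing `a` is everything. -/
theorem eq_top_of_a_mem (N : Subgroup Cfsg.Spor.He) (hN : N.Normal) (ha : gen .a ∈ N) :
    N = ⊤ := by
  haveI := hN
  let q : Cfsg.Spor.He →* Cfsg.Spor.He ⧸ N := QuotientGroup.mk' N
  have hsq : ∀ x, q (gen x) * q (gen x) = 1 := fun x => by rw [← map_mul, gen_sq, map_one]
  -- joined by an odd edge: one is trivial if the other is
  have odd : ∀ x y : He.Gen, coxLabel He.edges x y = 2 * 1 + 1 → q (gen x) = 1 →
      q (gen y) = 1 := by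
    intro x y hm hx
    have h := congrArg q (cox (x := x) (y := y))
    rw [map_pow, map_mul, map_one, hx, one_mul, hm, pow_succ, pow_mul, pow_two, hsq, one_pow,
      one_mul] at h
    exact h
  -- the subgroup of six letters has `a` in it
  have qa : q (gen .a) = 1 := (QuotientGroup.eq_one_iff _).2 ha
  have hd : ∀ x z, q (gen x) * (q (gen x) * z) = z := fun x z => by
    rw [← mul_assoc, hsq, one_mul]
  have h1 := congrArg q (word_one [.e, .c, .b, .a, .c, .b, .a, .c, .b, .a] (by decide))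
  simp only [List.map_cons, List.map_nil, List.prod_cons, List.prod_nil, map_mul, map_one, qa,
    one_mul, mul_one] at h1
  have hbc : q (gen .c) * (q (gen .b) * (q (gen .c) * (q (gen .b) * (q (gen .c) * q (gen .b))))) =
      1 := by
    have h := congrArg q (cox (x := He.Gen.c) (y := He.Gen.b))
    rw [show coxLabel He.edges He.Gen.c He.Gen.b = 3 from by decide, map_pow, map_mul, map_one,
      pow_succ, pow_two] at h
    simpa only [mul_assoc] using h
  rw [hbc, mul_one] at h1
  have qd := odd .e .d (by decide) h1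
  have qf := odd .d .f (by decide) qd
  have qg := odd .d .g (by decide) qd
  have h2 := congrArg q (word_one [.a, .d, .c, .d, .c, .d, .c, .d, .c, .d, .c] (by decide))
  simp only [List.map_cons, List.map_nil, List.prod_cons, List.prod_nil, map_mul, map_one, qa, qd,
    one_mul, mul_one, hd, hsq] at h2
  have qb := odd .c .b (by decide) h2
  have hall : ∀ x, gen x ∈ N := by
    intro x
    refine (QuotientGroup.eq_one_iff _).1 ?_
    cases x
    exacts [qa, qb, h2, qd, h1, qf, qg]
  rw [eq_top_iff, ← top_eq_lettersGroup (edges := He.edges) (extra := He.extra) allGens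
    mem_allGens, lettersGroup, Subgroup.closure_le]
  rintro _ ⟨x, -, rfl⟩
  exact hall x

theorem exists_gen (k : ℕ) (hk : k < Perm.data.g) : ∃ x, idx x = k := by
  have hk' : k < 7 := hk
  interval_cases k
  exacts [⟨.a, rfl⟩, ⟨.b, rfl⟩, ⟨.c, rfl⟩, ⟨.d, rfl⟩, ⟨.e, rfl⟩, ⟨.f, rfl⟩, ⟨.g, rfl⟩]

theorem π_injective : Function.Injective π := by
  haveI := finite
  have hlow : Nat.card Cfsg.Spor.He ≤ Nat.card π.range := by
    have h := PermData.le_card_of_hom (D := Perm.data) (⊤ : Subgroup π.range) π.range.subtype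
      (fun k hk => ?_) words_ok Perm.levels levels_ok
    · have e : (Perm.levels.map Level.len).prod = 4030387200 := by decide +kernel
      rw [e, Subgroup.card_top] at h
      rw [natCard]
      exact h
    · obtain ⟨x, hx⟩ := exists_gen k hk
      exact ⟨π.rangeRestrict (gen x), trivial, fun i => hx ▸ π_gen x i⟩
  exact (Subtype.val_injective).comp ((Nat.bijective_iff_surjective_and_card π.rangeRestrict).2
    ⟨π.rangeRestrict_surjective, le_antisymm hlow
      (Nat.card_le_card_of_surjective _ π.rangeRestrict_surjective)⟩).1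

/-- an element of order seven -/
noncomputable def u : Cfsg.Spor.He := ([He.Gen.b, .d, .c, .a, .d, .g, .f, .d, .f, .c, .d, .e, .g, .f].map gen).prod

theorem π_u (i : Fin Perm.data.n) :
    ((π u i : Fin Perm.data.n) : ℕ) = sevenData.img 0 i := by
  rw [u, π_word]
  have h := allBelow_spec seven_u i i.2
  simp only [Bool.and_eq_true, Nat.beq_eq] at h
  exact h.1

theorem π_au (i : Fin Perm.data.n) :
    ((π (gen .a * u) i : Fin Perm.data.n) : ℕ) = sevenData.img 1 i := by
  rw [map_mul, Equiv.Perm.mul_apply, π_gen, π_u]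
  have h := allBelow_spec seven_u i i.2
  simp only [Bool.and_eq_true, Nat.beq_eq] at h
  exact h.2

theorem pow_seven (y : Cfsg.Spor.He) (k : ℕ)
    (hy : ∀ i : Fin Perm.data.n, ((π y i : Fin Perm.data.n) : ℕ) = sevenData.img k i)
    (hk : ∀ i < Perm.data.n, sevenData.app (List.replicate 7 k) i = i) : y ^ 7 = 1 := by
  refine π_injective ?_
  rw [map_pow, map_one]
  refine Equiv.ext fun i => Fin.ext ?_
  have key : ∀ (m : ℕ) (i : Fin Perm.data.n),
      (((π y ^ m) i : Fin Perm.data.n) : ℕ) = sevenData.app (List.replicate m k) i := by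
    intro m
    induction m with
    | zero => intro i; rfl
    | succ m ih =>
      intro i
      rw [pow_succ, Equiv.Perm.mul_apply, ih, hy]
      rfl
  rw [key, hk i i.2]
  rfl

theorem invariant_sets (S : Set (Fin Perm.data.n)) (h0 : i₀ ∈ S)
    (hH : ∀ h ∈ H, ∀ i ∈ S, π h i ∈ S) (hd : S.ncard ∣ Perm.data.n) :
    S = {i₀} ∨ S = Set.univ := by
  have hn : Perm.data.n = 2058 := rfl
  obtain ⟨a1, a2, a3, a4⟩ := sub0_ok
  obtain ⟨b1, b2, b3, b4⟩ := sub1_ok
  obtain ⟨c1, c2, c3, c4⟩ := sub2_ok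
  obtain ⟨d1, d2, d3, d4⟩ := sub3_ok
  obtain ⟨hbA, eA⟩ := orbit_set _ a1 a2 a4
  obtain ⟨hbB, eB⟩ := orbit_set _ b1 b2 b4
  obtain ⟨hbC, eC⟩ := orbit_set _ c1 c2 c4
  obtain ⟨hbD, eD⟩ := orbit_set _ d1 d2 d4
  let O : Fin Perm.data.n → Set (Fin Perm.data.n) := fun b => {i | ∃ h ∈ H, π h b = i}
  have hi0 : ∀ b : Fin Perm.data.n, (b : ℕ) ≠ 0 → i₀ ∉ O b := by
    rintro b hb ⟨h, hh, he⟩
    have h' := congrArg (fun z => π h⁻¹ z) he
    rw [← Equiv.Perm.mul_apply, ← map_mul, inv_mul_cancel, map_one, Equiv.Perm.one_apply,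
      H_fix _ (H.inv_mem hh)] at h'
    exact hb (congrArg Fin.val h')
  have hmove : ∀ b i j, i ∈ O b → j ∈ O b → ∃ h ∈ H, π h i = j := by
    rintro b _ _ ⟨h, hh, rfl⟩ ⟨h', hh', rfl⟩
    refine ⟨h' * h⁻¹, H.mul_mem hh' (H.inv_mem hh), ?_⟩
    rw [← Equiv.Perm.mul_apply, ← map_mul, inv_mul_cancel_right]
  have hmeet : ∀ b b' i, i ∈ O b → i ∈ O b' → O b ⊆ O b' := by
    intro b b' i hi hi' j hj
    obtain ⟨h, hh, rfl⟩ := hmove b i j hi hj
    obtain ⟨h', hh', rfl⟩ := hi'
    exact ⟨h * h', H.mul_mem hh hh', by rw [map_mul, Equiv.Perm.mul_apply]⟩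
  have hdis : ∀ b b', (O b).ncard ≠ (O b').ncard → Disjoint (O b) (O b') := by
    intro b b' hne
    rw [Set.disjoint_left]
    exact fun i hi hi' => hne (congrArg Set.ncard
      (subset_antisymm (hmeet b b' i hi hi') (hmeet b' b i hi' hi)))
  let A := O ⟨_, hbA⟩
  let B := O ⟨_, hbB⟩
  let C := O ⟨_, hbC⟩
  let D := O ⟨_, hbD⟩
  have hA : A.ncard = 1360 := eA.trans a3
  have hB : B.ncard = 425 := eB.trans b3
  have hC : C.ncard = 136 := eC.trans c3
  have hD : D.ncard = 136 := eD.trans d3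
  have dAB : Disjoint A B := hdis _ _ (by show A.ncard ≠ B.ncard; omega)
  have dAC : Disjoint A C := hdis _ _ (by show A.ncard ≠ C.ncard; omega)
  have dAD : Disjoint A D := hdis _ _ (by show A.ncard ≠ D.ncard; omega)
  have dBC : Disjoint B C := hdis _ _ (by show B.ncard ≠ C.ncard; omega)
  have dBD : Disjoint B D := hdis _ _ (by show B.ncard ≠ D.ncard; omega)
  have dCD : Disjoint C D := by
    rw [Set.disjoint_left]
    intro i hi hi'
    obtain ⟨k, hk, e⟩ := hmeet _ _ i hi hi' (⟨1, H.one_mem, by simp⟩ : (⟨_, hbC⟩ : Fin Perm.data.n) ∈ C)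
    have := inOrb_invariant k hk ⟨HPerm.sub3.base, hbD⟩ inOrb_bases.1
    rw [e, inOrb_bases.2] at this
    exact Bool.false_ne_true this
  have z0 : HPerm.sub0.base ≠ 0 ∧ HPerm.sub1.base ≠ 0 ∧ HPerm.sub2.base ≠ 0 ∧
      HPerm.sub3.base ≠ 0 := by decide +kernel
  have dA : Disjoint ({i₀} : Set (Fin Perm.data.n)) A :=
    Set.disjoint_singleton_left.2 (hi0 _ z0.1)
  have dB : Disjoint ({i₀} : Set (Fin Perm.data.n)) B :=
    Set.disjoint_singleton_left.2 (hi0 _ z0.2.1)
  have dC : Disjoint ({i₀} : Set (Fin Perm.data.n)) C :=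
    Set.disjoint_singleton_left.2 (hi0 _ z0.2.2.1)
  have dD : Disjoint ({i₀} : Set (Fin Perm.data.n)) D :=
    Set.disjoint_singleton_left.2 (hi0 _ z0.2.2.2)
  have hcover : ({i₀} ∪ A ∪ B ∪ C ∪ D : Set (Fin Perm.data.n)) = Set.univ := by
    refine Set.eq_of_subset_of_ncard_le (Set.subset_univ _) ?_
    rw [Set.ncard_univ, Nat.card_fin,
      Set.ncard_union_eq (by simp only [Set.disjoint_union_left]; exact ⟨⟨⟨dD, dAD⟩, dBD⟩, dCD⟩),
      Set.ncard_union_eq (by simp only [Set.disjoint_union_left]; exact ⟨⟨dC, dAC⟩, dBC⟩),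
      Set.ncard_union_eq (by simp only [Set.disjoint_union_left]; exact ⟨dB, dAB⟩),
      Set.ncard_union_eq dA, Set.ncard_singleton, hA, hB, hC, hD]
    omega
  -- the part of `S` in an orbit is empty or the whole orbit
  have hpart : ∀ b, (S ∩ O b).ncard = 0 ∨ (S ∩ O b).ncard = (O b).ncard := by
    intro b
    rcases Set.eq_empty_or_nonempty (S ∩ O b) with h | ⟨i, hiS, hi⟩
    · exact Or.inl (by rw [h, Set.ncard_empty])
    · refine Or.inr (congrArg Set.ncard (subset_antisymm Set.inter_subset_right fun j hj => ?_))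
      obtain ⟨h, hh, rfl⟩ := hmove b i j hi hj
      exact ⟨hH h hh i hiS, hj⟩
  have hS : S = {i₀} ∪ (S ∩ A) ∪ (S ∩ B) ∪ (S ∩ C) ∪ (S ∩ D) := by
    ext j
    have hj : j ∈ ({i₀} ∪ A ∪ B ∪ C ∪ D : Set (Fin Perm.data.n)) := hcover ▸ Set.mem_univ j
    simp only [Set.mem_union, Set.mem_inter_iff, Set.mem_singleton_iff] at hj ⊢
    constructor
    · intro h
      simpa [h] using hj
    · rintro ((((rfl | h) | h) | h) | h)
      exacts [h0, h.1, h.1, h.1, h.1]
  have sA := (Set.inter_subset_right : S ∩ A ⊆ A)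
  have sB := (Set.inter_subset_right : S ∩ B ⊆ B)
  have sC := (Set.inter_subset_right : S ∩ C ⊆ C)
  have sD := (Set.inter_subset_right : S ∩ D ⊆ D)
  have hcard : S.ncard = 1 + (S ∩ A).ncard + (S ∩ B).ncard + (S ∩ C).ncard + (S ∩ D).ncard := by
    conv_lhs => rw [hS]
    rw [Set.ncard_union_eq (by simp only [Set.disjoint_union_left]; exact
        ⟨⟨⟨dD.mono_right sD, dAD.mono sA sD⟩, dBD.mono sB sD⟩, dCD.mono sC sD⟩),
      Set.ncard_union_eq (by simp only [Set.disjoint_union_left]; exact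
        ⟨⟨dC.mono_right sC, dAC.mono sA sC⟩, dBC.mono sB sC⟩),
      Set.ncard_union_eq (by simp only [Set.disjoint_union_left]; exact
        ⟨dB.mono_right sB, dAB.mono sA sB⟩),
      Set.ncard_union_eq (dA.mono_right sA), Set.ncard_singleton]
  have hd' : S.ncard ∣ 2058 := hd.trans (dvd_of_eq hn)
  have hall : S.ncard = 1 ∨ S.ncard = 2058 := by
    rw [hcard] at hd' ⊢
    rcases hpart ⟨_, hbA⟩ with h1 | h1 <;> rcases hpart ⟨_, hbB⟩ with h2 | h2 <;>
      rcases hpart ⟨_, hbC⟩ with h3 | h3 <;> rcases hpart ⟨_, hbD⟩ with h4 | h4 <;>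
      simp only [show O ⟨_, hbA⟩ = A from rfl, show O ⟨_, hbB⟩ = B from rfl,
        show O ⟨_, hbC⟩ = C from rfl, show O ⟨_, hbD⟩ = D from rfl, hA, hB, hC, hD] at h1 h2 h3 h4 <;>
      rw [h1, h2, h3, h4] at hd' ⊢ <;>
      first
        | (norm_num; done)
        | (revert hd'; norm_num)
  rcases hall with h | h
  · left
    obtain ⟨a, rfl⟩ := Set.ncard_eq_one.1 h
    rw [Set.mem_singleton_iff.1 h0]
  · right
    refine Set.eq_of_subset_of_ncard_le (Set.subset_univ _) ?_
    rw [Set.ncard_univ, Nat.card_fin]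
    omega

/-- The presented Held group is simple. -/
theorem isHe : Cfsg.IsHe Cfsg.Spor.He := by
  haveI := finite
  haveI : Nontrivial Cfsg.Spor.He :=
    Finite.one_lt_card_iff_nontrivial.1 (by rw [natCard]; norm_num)
  haveI : Fact (Nat.Prime 7) := ⟨by norm_num⟩
  refine ⟨isSimpleGroup_of_primePow 7 3 (by rw [natCard]; norm_num) (fun N hN hne => ?_) u
    (gen .a * u) (pow_seven u 0 π_u ?_) (pow_seven _ 1 π_au ?_) (fun N hN h => ?_), natCard⟩
  · have h := dvd_card_normal π π_injective i₀ H H_fix index_H transitive invariant_sets N hN hne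
    exact dvd_trans (by rw [show Perm.data.n = 2058 from rfl]; norm_num) h
  · intro i hi
    have h := allBelow_spec seven_pow i hi
    simp only [Bool.and_eq_true, Nat.beq_eq] at h
    exact h.1
  · intro i hi
    have h := allBelow_spec seven_pow i hi
    simp only [Bool.and_eq_true, Nat.beq_eq] at h
    exact h.2
  · exact eq_top_of_a_mem N hN (by simpa using h)

end CfsgLib.Spor.He
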