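import Cfsg.Agent.Lib.Spor.He.PermWords0
import Cfsg.Agent.Lib.Spor.He.PermWords1
import Cfsg.Agent.Lib.Spor.He.ABPermData

/-!
The orbits along the base.
-/

namespace CfsgLib.Spor.He

open CfsgLib.PresCert

theorem words_ok : Perm.data.okWords Perm.data.g Perm.data.words = true :=
  (Bool.and_eq_true_iff.2 ⟨word0_ok, (Bool.and_eq_true_iff.2 ⟨word1_ok, (Bool.and_eq_true_iff.2 ⟨word2_ok, (Bool.and_eq_true_iff.2 ⟨word3_ok, (Bool.and_eq_true_iff.2 ⟨word4_ok, (Bool.and_eq_true_iff.2 ⟨word5_ok, rfl⟩)⟩)⟩)⟩)⟩)⟩)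

theorem levels_ok : Perm.data.okLevels [] Perm.levels = true := by decide +kernel

theorem abWords_ok : ABPerm.data.okWords ABPerm.data.g ABPerm.data.words = true := by
  decide +kernel

theorem abLevels_ok : ABPerm.data.okLevels [] ABPerm.levels = true := by decide +kernel

theorem abImg_ok : ((List.range 2).all fun k => allBelow 2058 fun i =>
    Nat.beq (Perm.data.img k i) (ABPerm.data.img k i)) = true := by
  decide +kernel

end CfsgLib.Spor.He
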