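import Cfsg.Agent.Lib.Spor.He.ZData

/-!
Checking slots of the certificate.
-/

namespace CfsgLib.Spor.He.Z

open CfsgLib.PresCert

theorem slots_0 : cert.okRange 0 512 = true := by decide +kernel

theorem slots_1 : cert.okRange 512 512 = true := by decide +kernel

theorem slots_2 : cert.okRange 1024 512 = true := by decide +kernel

theorem slots_3 : cert.okRange 1536 354 = true := by decide +kernel

end CfsgLib.Spor.He.Z
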