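import Cfsg.Agent.Lib.Spor.He.Rep
import Cfsg.Agent.Lib.Spor.He.PermLevels
import Cfsg.Agent.Lib.Spor.He.ZCert
import Cfsg.Agent.Lib.Spor.He.A1Cert
import Cfsg.Agent.Lib.Spor.He.A2Cert
import Cfsg.Agent.Lib.PresCert.Walk

/-!
A word centralising the subgroup on six letters is trivial.
-/

namespace CfsgLib.Spor.He

open CfsgLib.PresCert Cfsg.Spor

theorem card_a : CardLE (lettersGroup [He.Gen.a] gen) (2 * 1) :=
  step_bound A2.valid [.a] [] (by simp) (by decide +kernel) (by decide +kernel)
    (by simpa [lettersGroup] using CardLE.bot)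

theorem card_ab : CardLE (lettersGroup [He.Gen.a, .b] gen) 8 :=
  step_bound A1.valid [.a, .b] [.a] (by simp) (by decide +kernel) (by decide +kernel) card_a

/-- the group on the first two letters -/
noncomputable def AB : Subgroup Cfsg.Spor.He := lettersGroup [He.Gen.a, .b] gen

theorem π_inj_AB : ∀ x ∈ AB, π x = 1 → x = 1 := by
  intro x hx h
  haveI : Finite AB := Nat.finite_of_card_ne_zero card_ab.1
  let r : AB →* (AB.map π : Subgroup (Equiv.Perm (Fin Perm.data.n))) := π.subgroupMap AB
  have hr : Function.Surjective r := π.subgroupMap_surjective AB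
  haveI : Finite (AB.map π : Subgroup (Equiv.Perm (Fin Perm.data.n))) := Finite.of_surjective r hr
  have h2 := PermData.le_card_of_hom (D := ABPerm.data) (AB.map π)
    (MonoidHom.id (Equiv.Perm (Fin Perm.data.n))) (fun k hk => ?_) abWords_ok ABPerm.levels
    abLevels_ok
  · have e : (ABPerm.levels.map Level.len).prod = 8 := by decide +kernel
    rw [e] at h2
    have hle : Nat.card (AB.map π : Subgroup (Equiv.Perm (Fin Perm.data.n))) ≤ Nat.card AB :=
      Nat.card_le_card_of_surjective r hr
    have hb : Function.Bijective r := (Nat.bijective_iff_surjective_and_card r).2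
      ⟨hr, le_antisymm (le_trans card_ab.2 h2) hle⟩
    have : r ⟨x, hx⟩ = r 1 := Subtype.ext (by simpa [r] using h)
    exact congrArg Subtype.val (hb.1 this)
  · have hk' : k < 2 := hk
    have step : ∀ y ∈ [He.Gen.a, .b], idx y = k →
        ∃ σ ∈ AB.map π, ∀ i : Fin Perm.data.n,
          ((MonoidHom.id (Equiv.Perm (Fin Perm.data.n)) σ i : Fin Perm.data.n) : ℕ) =
            ABPerm.data.img k i := fun y hy e =>
      ⟨π (gen y), Subgroup.mem_map_of_mem _ (Subgroup.subset_closure ⟨y, hy, rfl⟩), fun i => by
        show ((π (gen y) i : Fin Perm.data.n) : ℕ) = _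
        rw [π_gen, e]
        exact Nat.eq_of_beq_eq_true
          (allBelow_spec (List.all_eq_true.1 abImg_ok k (List.mem_range.2 hk')) i i.2)⟩
    interval_cases k
    exacts [step .a (by simp) rfl, step .b (by simp) rfl]

theorem z_fix : allBelow 2058 (fun i =>
    Nat.beq (Perm.data.app (zWord.map idx).reverse i) i) = true := by
  decide +kernel

theorem π_z : π (zWord.map gen).prod = 1 := by
  refine Equiv.ext fun i => Fin.ext ?_
  rw [π_word]
  exact Nat.eq_of_beq_eq_true (allBelow_spec z_fix i i.2)

theorem z_mem : (zWord.map gen).prod ∈ AB := by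
  have h := word_mem Z.valid gen_sq gen_known (sel := [He.Gen.a, .b, .c, .d, .e])
    (subs := [He.Gen.a, .b].map fun x => [x]) (d := .a) (by decide +kernel) (by decide +kernel)
    [2, 3, 2, 3, 4, 3, 2, 3, 2, 3, 4, 3, 2, 3, 4] (by decide +kernel) 524288 (by decide +kernel)
  rw [wordsGroup_singletons] at h
  exact h

theorem z_eq_one : (zWord.map gen).prod = 1 := π_inj_AB _ z_mem π_z

/-- relator words together with the central word -/
def knownZ : List (List He.Gen) := known ++ [zWord]

theorem gen_knownZ : ∀ w ∈ knownZ, (w.map gen).prod = 1 := by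
  intro w hw
  rcases List.mem_append.1 hw with h | h
  · exact gen_known w h
  · rw [List.mem_singleton.1 h]
    exact z_eq_one

end CfsgLib.Spor.He
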