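import Cfsg.Agent.Lib.PresCert.Check

/-!
Coset table certificate (generated data).
-/

namespace CfsgLib.Spor.He.D1

open CfsgLib.PresCert

noncomputable def tab : BTree := (.leaf 0x80a400070000600080840006800060008064000600006000001000000000500180440005800040000010000000003001000400050000400000000000000060000010000580005000001000000000200000100005000050010084000480004000802400038000300000000000000050000010000000002001006400040000300080a400030000200000000000000040000000000000003000001000000000100000100000000000010044000280001001002400020000100000000000000020000000000000001000004800018000000000280001000000000008000080000)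

noncomputable def par : BTree := (.leaf 0x5000000000020000300000000002000020000000000100002000000000000000100000000003000000000000000000000)

noncomputable def fact : BTree := (.leaf 0x0)

/-- the certificate -/
noncomputable def cert : Cert where
  n := 7
  v := 0
  g := 4
  inv := [0, 1, 2, 3]
  rels := [[1, 2, 1, 2], [1, 3, 1, 3], [1, 3, 2, 3, 2], [0, 1, 0, 1, 0, 1], [0, 2, 0, 2, 0, 2], [0, 3, 0, 3, 0, 3], [2, 3, 2, 3, 2, 3, 2, 3], [2, 1, 2, 1], [3, 1, 3, 1], [2, 3, 2, 3, 1], [1, 0, 1, 0, 1, 0], [2, 0, 2, 0, 2, 0], [3, 0, 3, 0, 3, 0], [3, 2, 3, 2, 3, 2, 3, 2]]
  subs := [[0], [1], [2]]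
  tab := tab
  par := par
  fact := fact
  nfact := 0

/-- justifications -/
noncomputable def just0 : List Cert.Just :=
  []

/-- all justifications -/
noncomputable def justs : List Cert.Just := just0

end CfsgLib.Spor.He.D1
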