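import Cfsg.Agent.Lib.Spor.He.Bounds
import Cfsg.Agent.Lib.Spor.He.HCert
import Cfsg.Agent.Lib.Spor.He.HPermData
import Cfsg.Agent.Lib.PresCert.CosetAction

/-!
The subgroup of index 2058 of the presented Held group and its orbits on its cosets.
-/

namespace CfsgLib.Spor.He

open CfsgLib.PresCert Cfsg.Spor

/-- the words generating the subgroup of index 2058 -/
def hWords : List (List He.Gen) :=
  [[.a], [.c], [.d], [.e], [.f], [.a, .b, .a, .b], (List.replicate 7 [.b, .c, .d, .e]).flatten]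

/-- the subgroup of index 2058 -/
noncomputable def H : Subgroup Cfsg.Spor.He := wordsGroup hWords gen

theorem index_H_le : H.index ≤ 2058 := by
  have h := (index_bound H.valid gen_sq gen_known
    (sel := allGens) (subs := hWords) (d := .a) (by decide +kernel) (by decide +kernel)).1
  rw [top_eq_lettersGroup (edges := He.edges) (extra := He.extra) allGens
    mem_allGens, Subgroup.relIndex_top_right] at h
  exact h

theorem lev0_ok : Perm.data.okOrbit Perm.lev0 = true ∧ Perm.data.okClosed Perm.lev0 = true ∧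
    Perm.lev0.len = 2058 ∧ Perm.lev0.base = 0 ∧ Perm.lev0.gens = List.range 7 := by
  decide +kernel

theorem sub0_ok : HPerm.data.okOrbit HPerm.sub0 = true ∧ HPerm.data.okClosed HPerm.sub0 = true ∧
    HPerm.sub0.len = 1360 ∧ HPerm.sub0.gens = List.range 7 := by
  decide +kernel

theorem sub1_ok : HPerm.data.okOrbit HPerm.sub1 = true ∧ HPerm.data.okClosed HPerm.sub1 = true ∧
    HPerm.sub1.len = 425 ∧ HPerm.sub1.gens = List.range 7 := by
  decide +kernel

theorem sub2_ok : HPerm.data.okOrbit HPerm.sub2 = true ∧ HPerm.data.okClosed HPerm.sub2 = true ∧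
    HPerm.sub2.len = 136 ∧ HPerm.sub2.gens = List.range 7 := by
  decide +kernel

theorem sub3_ok : HPerm.data.okOrbit HPerm.sub3 = true ∧ HPerm.data.okClosed HPerm.sub3 = true ∧
    HPerm.sub3.len = 136 ∧ HPerm.sub3.gens = List.range 7 := by
  decide +kernel

theorem fix_zero :
    (hWords.all fun w => Nat.beq (Perm.data.app (w.map idx).reverse 0) 0) = true := by
  decide +kernel

theorem hImg_ok : ((List.range 7).all fun k => allBelow 2058 fun i =>
    Nat.beq (Perm.data.app ((hWords.getD k []).map idx).reverse i) (HPerm.data.img k i)) = true := by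
  decide +kernel

/-- the base point -/
noncomputable def i₀ : Fin Perm.data.n := ⟨0, (by decide +kernel : 0 < Perm.data.n)⟩

theorem H_fix : ∀ k ∈ H, π k i₀ = i₀ := by
  suffices h : H ≤ (MulAction.stabilizer (Equiv.Perm (Fin Perm.data.n)) i₀).comap π from
    fun k hk => h hk
  rw [H, wordsGroup, Subgroup.closure_le]
  rintro _ ⟨w, hw, rfl⟩
  show π (w.map gen).prod i₀ = i₀
  apply Fin.ext
  rw [π_word]
  exact Nat.eq_of_beq_eq_true (List.all_eq_true.1 fix_zero w hw)

theorem transitive (i : Fin Perm.data.n) : ∃ g, π g i₀ = i := by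
  obtain ⟨h1, h2, h3, h4, h5⟩ := lev0_ok
  have hn : Perm.data.g = 7 := rfl
  have e := PermData.ncard_orbit (PermData.interp invol_ok) Perm.lev0 h1 h2
    (fun k hk => by rw [h5] at hk; exact hn ▸ List.mem_range.1 hk) _ rfl
    (by rw [h4]; exact (by decide +kernel : 0 < Perm.data.n))
  rw [h3] at e
  have hn2 : Perm.data.n = 2058 := rfl
  have huniv : {j | ∃ σ ∈ Subgroup.closure
      {σ | ∃ k ∈ Perm.lev0.gens, (PermData.interp invol_ok).gen k = σ},
      σ ⟨Perm.lev0.base, by rw [h4]; exact (by decide +kernel : 0 < Perm.data.n)⟩ = j} =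
      Set.univ := Set.eq_of_subset_of_ncard_le (Set.subset_univ _) (by
        rw [e, Set.ncard_univ, Nat.card_eq_fintype_card, Fintype.card_fin, hn2])
  obtain ⟨σ, hσ, rfl⟩ := (huniv ▸ Set.mem_univ i : i ∈ {j | ∃ σ ∈ Subgroup.closure
      {σ | ∃ k ∈ Perm.lev0.gens, (PermData.interp invol_ok).gen k = σ},
      σ ⟨Perm.lev0.base, by rw [h4]; exact (by decide +kernel : 0 < Perm.data.n)⟩ = j})
  have hr : σ ∈ π.range := by
    refine (Subgroup.closure_le _).2 ?_ hσ
    rintro _ ⟨k, hk, rfl⟩
    rw [h5] at hk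
    have hk' : k < 7 := List.mem_range.1 hk
    have hx : ∀ x : He.Gen, idx x = k → (PermData.interp invol_ok).gen k ∈ π.range :=
      fun x e => ⟨gen x, by rw [π, rep_of invol_ok wordsFor relNums_ok rels_covered x, e]; rfl⟩
    interval_cases k
    exacts [hx .a rfl, hx .b rfl, hx .c rfl, hx .d rfl, hx .e rfl, hx .f rfl, hx .g rfl]
  obtain ⟨g, rfl⟩ := hr
  exact ⟨g, congrArg _ (Fin.ext h4.symm)⟩

theorem index_H : H.index = 2058 := by
  haveI := finite
  refine le_antisymm index_H_le ?_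
  have hwd : ∀ a b : Cfsg.Spor.He, (QuotientGroup.leftRel H) a b → π a i₀ = π b i₀ := by
    intro a b hab
    rw [QuotientGroup.leftRel_apply] at hab
    conv_rhs => rw [show b = a * (a⁻¹ * b) by simp]
    rw [map_mul, Equiv.Perm.mul_apply, H_fix _ hab]
  have hs : Function.Surjective
      (Quotient.lift (fun g => π g i₀) hwd : Cfsg.Spor.He ⧸ H → Fin Perm.data.n) := fun i => by
    obtain ⟨g, hg⟩ := transitive i
    exact ⟨(g : Cfsg.Spor.He ⧸ H), hg⟩
  have h := Nat.card_le_card_of_surjective _ hs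
  rw [Nat.card_fin] at h
  rw [Subgroup.index_eq_card]
  exact h

/-- the generators of the subgroup as permutations -/
noncomputable def hInterp : PermData.Interp HPerm.data where
  gen k := π ((hWords.getD k []).map gen).prod
  gen_img k hk i := by
    have h := allBelow_spec (List.all_eq_true.1 hImg_ok k (List.mem_range.2 hk)) i i.2
    exact (π_word _ i).trans (Nat.eq_of_beq_eq_true h)

theorem orbit_set (L : Level) (h1 : HPerm.data.okOrbit L = true)
    (h2 : HPerm.data.okClosed L = true) (hg : L.gens = List.range 7) :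
    ∃ hb : L.base < Perm.data.n, Set.ncard {i | ∃ k ∈ H, π k ⟨L.base, hb⟩ = i} = L.len := by
  have hb : L.base < HPerm.data.n := by
    simp only [PermData.okOrbit, Bool.and_eq_true, Nat.blt_eq] at h1
    exact h1.1.1.1.2
  refine ⟨hb, ?_⟩
  have hm : H.map π = Subgroup.closure {σ | ∃ k ∈ L.gens, hInterp.gen k = σ} := by
    rw [H, wordsGroup, MonoidHom.map_closure, hg]
    congr 1
    ext σ
    constructor
    · rintro ⟨_, ⟨w, hw, rfl⟩, rfl⟩
      obtain ⟨k, hk, rfl⟩ := List.getElem_of_mem hw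
      refine ⟨k, List.mem_range.2 hk, ?_⟩
      show π ((hWords.getD k []).map gen).prod = _
      rw [List.getD_eq_getElem?_getD, List.getElem?_eq_getElem hk]
      rfl
    · rintro ⟨k, hk, rfl⟩
      have hk' : k < hWords.length := List.mem_range.1 hk
      refine ⟨_, ⟨hWords[k], List.getElem_mem hk', rfl⟩, ?_⟩
      show _ = π ((hWords.getD k []).map gen).prod
      rw [List.getD_eq_getElem?_getD, List.getElem?_eq_getElem hk']
      rfl
  have e := PermData.ncard_orbit hInterp L h1 h2
    (fun k hk => by rw [hg] at hk; exact List.mem_range.1 hk) (H.map π) hm hb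
  rw [← e]
  congr 1
  ext i
  simp only [Set.mem_setOf_eq, Subgroup.mem_map]
  constructor
  · rintro ⟨k, hk, rfl⟩
    exact ⟨π k, ⟨k, hk, rfl⟩, rfl⟩
  · rintro ⟨_, ⟨k, hk, rfl⟩, rfl⟩
    exact ⟨k, hk, rfl⟩

theorem orbit_H (L : Level) (h1 : HPerm.data.okOrbit L = true)
    (h2 : HPerm.data.okClosed L = true) (hg : L.gens = List.range 7) :
    ∃ q : Cfsg.Spor.He ⧸ H, (MulAction.orbit H q).ncard = L.len := by
  obtain ⟨hb, e⟩ := orbit_set L h1 h2 hg
  exact exists_orbit_ncard π H i₀ H_fix index_H transitive ⟨L.base, hb⟩ L.len e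

/-- membership of a point in a listed orbit -/
noncomputable def inOrb (L : Level) (i : ℕ) : Bool :=
  Nat.blt (L.pos.word i) L.len && Nat.beq (Nat.land (L.orb.word (L.pos.word i)) 65535) i

theorem inOrb_sub3 : ((List.range 7).all fun k => allBelow 2058 fun i =>
    !(inOrb HPerm.sub3 i) || inOrb HPerm.sub3 (HPerm.data.img k i)) = true := by
  decide +kernel

theorem inOrb_bases : inOrb HPerm.sub3 HPerm.sub3.base = true ∧
    inOrb HPerm.sub3 HPerm.sub2.base = false := by
  decide +kernel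

theorem inOrb_invariant : ∀ h ∈ H, ∀ i : Fin Perm.data.n, inOrb HPerm.sub3 i = true →
    inOrb HPerm.sub3 ((π h i : Fin Perm.data.n) : ℕ) = true := by
  intro h hh
  let T : Set (Fin Perm.data.n) := {i | inOrb HPerm.sub3 i = true}
  have hgen : ∀ w ∈ hWords, Set.MapsTo (π (w.map gen).prod) T T := by
    intro w hw i hi
    obtain ⟨k, hk, rfl⟩ := List.getElem_of_mem hw
    have hk' : k < HPerm.data.g := hk
    have e : ((π ((hWords[k]).map gen).prod i : Fin Perm.data.n) : ℕ) = HPerm.data.img k i := by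
      have := hInterp.gen_img k hk' i
      rw [← this]
      show _ = ((π ((hWords.getD k []).map gen).prod i : Fin Perm.data.n) : ℕ)
      rw [List.getD_eq_getElem?_getD, List.getElem?_eq_getElem hk]
      rfl
    have h2 := allBelow_spec (List.all_eq_true.1 inOrb_sub3 k (List.mem_range.2 hk)) i i.2
    have hi' : inOrb HPerm.sub3 i = true := hi
    show inOrb HPerm.sub3 _ = true
    refine (congrArg (inOrb HPerm.sub3) e).trans ?_
    simpa [hi'] using h2
  suffices Set.MapsTo (π h) T T from fun i hi => this hi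
  rw [H, wordsGroup] at hh
  induction hh using Subgroup.closure_induction'' with
  | mem q hq =>
    obtain ⟨w, hw, rfl⟩ := hq
    exact hgen w hw
  | inv_mem q hq =>
    obtain ⟨w, hw, rfl⟩ := hq
    rw [map_inv]
    exact fun i hi => Equiv.Perm.perm_symm_mapsTo_of_mapsTo _ (hgen w hw) hi
  | one => simp [Set.MapsTo]
  | mul a b _ _ iha ihb =>
    intro i hi
    rw [map_mul, Equiv.Perm.mul_apply]
    exact iha (ihb hi)

/-- The two orbits of size 136 differ. -/
theorem orbits_136 : ∃ q₁ q₂ : Cfsg.Spor.He ⧸ H,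
    MulAction.orbit H q₁ ≠ MulAction.orbit H q₂ ∧
    (MulAction.orbit H q₁).ncard = 136 ∧ (MulAction.orbit H q₂).ncard = 136 := by
  obtain ⟨φ, hφ⟩ := coset_bijection π H i₀ H_fix index_H transitive
  have hsmul : ∀ (k : Cfsg.Spor.He) (q : Cfsg.Spor.He ⧸ H), φ (k • q) = π k (φ q) := by
    intro k q
    obtain ⟨g, rfl⟩ := QuotientGroup.mk_surjective q
    rw [MulAction.Quotient.smul_mk, hφ, hφ, smul_eq_mul, map_mul, Equiv.Perm.mul_apply]
  have horb : ∀ (b : Fin Perm.data.n) (i : Fin Perm.data.n),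
      φ.symm i ∈ MulAction.orbit H (φ.symm b) ↔ ∃ k ∈ H, π k b = i := by
    intro b i
    constructor
    · rintro ⟨k, hk⟩
      have hk' : (k : Cfsg.Spor.He) • φ.symm b = φ.symm i := hk
      refine ⟨k, k.2, ?_⟩
      have := congrArg φ hk'
      rwa [hsmul, Equiv.apply_symm_apply, Equiv.apply_symm_apply] at this
    · rintro ⟨k, hk, rfl⟩
      refine ⟨⟨k, hk⟩, φ.injective ?_⟩
      show φ (k • φ.symm b) = _
      rw [hsmul, Equiv.apply_symm_apply, Equiv.apply_symm_apply]
  obtain ⟨a1, a2, a3, a4⟩ := sub2_ok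
  obtain ⟨b1, b2, b3, b4⟩ := sub3_ok
  obtain ⟨hb2, e2⟩ := orbit_set _ a1 a2 a4
  obtain ⟨hb3, e3⟩ := orbit_set _ b1 b2 b4
  have hcard : ∀ b : Fin Perm.data.n, (MulAction.orbit H (φ.symm b)).ncard =
      Set.ncard {i | ∃ k ∈ H, π k b = i} := by
    intro b
    rw [← Set.ncard_image_of_injective _ φ.symm.injective]
    congr 1
    ext q
    constructor
    · intro hq
      exact ⟨φ q, (horb b (φ q)).1 (by rwa [Equiv.symm_apply_apply]), Equiv.symm_apply_apply φ q⟩
    · rintro ⟨i, hi, rfl⟩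
      exact (horb b i).2 hi
  refine ⟨φ.symm ⟨_, hb2⟩, φ.symm ⟨_, hb3⟩, ?_, (hcard _).trans (e2.trans a3),
    (hcard _).trans (e3.trans b3)⟩
  intro heq
  have hm : φ.symm ⟨_, hb2⟩ ∈ MulAction.orbit H (φ.symm ⟨HPerm.sub3.base, hb3⟩) :=
    heq ▸ MulAction.mem_orbit_self _
  obtain ⟨k, hk, e⟩ := (horb _ _).1 hm
  have := inOrb_invariant k hk ⟨HPerm.sub3.base, hb3⟩ inOrb_bases.1
  rw [e, inOrb_bases.2] at this
  exact Bool.false_ne_true this

end CfsgLib.Spor.He
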