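import Cfsg.Agent.Lib.PresCert.PermHom
import Cfsg.Agent.Lib.Spor.He.PermData

/-!
The tables are involutions.
-/

namespace CfsgLib.Spor.He

open CfsgLib.PresCert

theorem invol_ok : Perm.data.okInvol = true := by decide +kernel

end CfsgLib.Spor.He
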