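import Cfsg.Agent.Lib.PresCert.PermHom
import Cfsg.Agent.Lib.Spor.He.PermData

/-!
Relators checked on 2058 points.
-/

namespace CfsgLib.Spor.He

open CfsgLib.PresCert

/-- numeric relators, part 0 -/
def relNums0 : List (List Nat) :=
  [[2, 3, 2, 3, 2, 3, 2, 3, 2, 3, 2, 3, 2, 3, 2, 3, 2, 3, 2, 3],
   [4, 2, 1, 0, 2, 1, 0, 2, 1, 0],
   [5, 6, 5, 6, 5, 6, 5, 6],
   [3, 4, 3, 4, 3, 4],
   [3, 6, 3, 6, 3, 6],
   [0, 2, 0, 2],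
   [0, 4, 0, 4],
   [0, 6, 0, 6],
   [1, 4, 1, 4],
   [1, 6, 1, 6],
   [2, 5, 2, 5],
   [4, 5, 4, 5],
   [0, 0],
   [1, 1],
   [3, 3],
   [5, 5]]

theorem relNums0_ok : Perm.data.okNums relNums0 = true := by decide +kernel

end CfsgLib.Spor.He
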