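import Cfsg.Agent.Lib.PresCert.PermHom
import Cfsg.Agent.Lib.Spor.He.PermData

/-!
Relators checked on 2058 points.
-/

namespace CfsgLib.Spor.He

open CfsgLib.PresCert

/-- numeric relators, part 1 -/
def relNums1 : List (List Nat) :=
  [[2, 3, 5, 6, 2, 3, 5, 6, 2, 3, 5, 6, 2, 3, 5, 6],
   [0, 3, 2, 3, 2, 3, 2, 3, 2, 3, 2],
   [0, 1, 0, 1, 0, 1, 0, 1],
   [1, 2, 1, 2, 1, 2],
   [3, 5, 3, 5, 3, 5],
   [4, 6, 5, 6, 5],
   [0, 3, 0, 3],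
   [0, 5, 0, 5],
   [1, 3, 1, 3],
   [1, 5, 1, 5],
   [2, 4, 2, 4],
   [2, 6, 2, 6],
   [4, 6, 4, 6],
   [2, 2],
   [4, 4],
   [6, 6]]

theorem relNums1_ok : Perm.data.okNums relNums1 = true := by decide +kernel

end CfsgLib.Spor.He
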