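import Cfsg.Agent.Lib.Spor.He.Simple
import Cfsg.Agent.Lib.CharsMore.HeSp44.HeStatement

/-!
The Held group as a permutation group of degree 2058 with point stabiliser of shape `Sp(4,4).2`.
-/

namespace CfsgLib.Spor.He

open CfsgLib.PresCert Cfsg.Spor

theorem closure_eq_H : (Subgroup.closure ({Cfsg.Spor.He.a, Cfsg.Spor.He.c, Cfsg.Spor.He.d, Cfsg.Spor.He.e, Cfsg.Spor.He.f, (Cfsg.Spor.He.a * Cfsg.Spor.He.b) ^ 2, (Cfsg.Spor.He.b * Cfsg.Spor.He.c * Cfsg.Spor.He.d * Cfsg.Spor.He.e) ^ 7} : Set (FreeGroup Cfsg.Spor.He.Gen))).map (PresentedGroup.mk (Cfsg.Spor.coxRelators Cfsg.Spor.He.edges ∪ {r | r ∈ Cfsg.Spor.He.extra})) = CfsgLib.Spor.He.H := by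
  rw [CfsgLib.PresCert.map_closure_eq CfsgLib.Spor.He.hWords _ ?_]
  · rfl
  · ext r
    simp [CfsgLib.Spor.He.hWords, Cfsg.Spor.He.a, Cfsg.Spor.He.b, Cfsg.Spor.He.c, Cfsg.Spor.He.d, Cfsg.Spor.He.e, Cfsg.Spor.He.f, Cfsg.Spor.He.g, eq_comm, pow_succ,
      List.replicate_succ, mul_assoc]

theorem mem_H_of_fix (g : Cfsg.Spor.He) (hg : π g i₀ = i₀) : g ∈ H := by
  obtain ⟨φ, hφ⟩ := coset_bijection π H i₀ H_fix index_H transitive
  have : φ (g : Cfsg.Spor.He ⧸ H) = φ ((1 : Cfsg.Spor.He) : Cfsg.Spor.He ⧸ H) := by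
    rw [hφ, hφ, hg, map_one]
    rfl
  simpa using QuotientGroup.eq.1 (φ.injective this).symm

theorem realization : ∃ R : Subgroup (Equiv.Perm (Fin 2058)), Cfsg.IsHe R ∧
    MulAction.IsPretransitive R (Fin 2058) ∧ ∃ (F : Type) (_ : Field F) (_ : Fintype F),
      Fintype.card F = 4 ∧ ∃ N : Subgroup (MulAction.stabilizer R (0 : Fin 2058)), N.index = 2 ∧
        Nonempty (N ≃* Matrix.symplecticGroup (Fin 2) F) := by
  haveI := finite
  let φ : Cfsg.Spor.He →* Equiv.Perm (Fin 2058) := π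
  let e : Cfsg.Spor.He ≃* φ.range := MonoidHom.ofInjective π_injective
  have hi : @Eq (Fin 2058) i₀ (0 : Fin 2058) := Fin.ext rfl
  refine ⟨φ.range, ⟨?_, ?_⟩, ?_, ?_⟩
  · haveI := isHe.1
    haveI : Nontrivial φ.range := e.injective.nontrivial
    exact e.isSimpleGroup_congr.1 isHe.1
  · rw [← Nat.card_congr e.toEquiv]
    exact isHe.2
  · refine ⟨fun i j => ?_⟩
    obtain ⟨g, hg⟩ := transitive i
    obtain ⟨g', hg'⟩ := transitive j
    refine ⟨e (g' * g⁻¹), ?_⟩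
    show φ (g' * g⁻¹) i = j
    show π (g' * g⁻¹) i = j
    rw [← hg, ← Equiv.Perm.mul_apply, ← map_mul, inv_mul_cancel_right, hg']
  · obtain ⟨N, K, iK, iK', -, h2, h3, ⟨iso⟩⟩ :=
      closure_eq_H ▸ CfsgLib.CharsMore.HeSp44.statement card_all_le
    refine ⟨K, iK, iK', h3, ?_⟩
    have hst : H.map e.toMonoidHom = MulAction.stabilizer φ.range (0 : Fin 2058) := by
      ext x
      constructor
      · rintro ⟨g, hg, rfl⟩
        show φ g (0 : Fin 2058) = 0
        rw [← hi]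
        exact H_fix g hg
      · intro hx
        obtain ⟨g, rfl⟩ := e.surjective x
        refine ⟨g, mem_H_of_fix g ?_, rfl⟩
        have : φ g (0 : Fin 2058) = 0 := hx
        rw [← hi] at this
        exact this
    let f : H ≃* MulAction.stabilizer φ.range (0 : Fin 2058) :=
      (e.subgroupMap H).trans (MulEquiv.subgroupCongr hst)
    refine ⟨N.map f.toMonoidHom, ?_, ⟨(f.subgroupMap N).symm.trans iso⟩⟩
    rw [MulEquiv.toMonoidHom_eq_coe, Subgroup.index_map_equiv]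
    exact h2

end CfsgLib.Spor.He
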