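import Cfsg.Agent.Lib.Spor.He.Words
import Cfsg.Agent.Lib.Spor.He.PermInvol
import Cfsg.Agent.Lib.Spor.He.PermRels0
import Cfsg.Agent.Lib.Spor.He.PermRels1

/-!
The permutation representation on 2058 points.
-/

namespace CfsgLib.Spor.He

open CfsgLib.PresCert Cfsg.Spor

/-- all numeric relators -/
def relNums : List (List Nat) := relNums0 ++ relNums1

theorem relNums_ok : Perm.data.okNums relNums = true := by
  rw [PermData.okNums, relNums, List.all_append]
  exact Bool.and_eq_true_iff.2 ⟨relNums0_ok, relNums1_ok⟩

theorem rels_covered : PermData.okCovered idx relNums known = true := by decide +kernel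

/-- the representation on 2058 points -/
noncomputable def π : Cfsg.Spor.He →* Equiv.Perm (Fin Perm.data.n) :=
  rep Perm.data idx invol_ok wordsFor relNums_ok rels_covered

theorem idx_lt (x : He.Gen) : idx x < Perm.data.g := by
  show idx x < 7
  cases x <;> simp [idx]

theorem π_gen (x : He.Gen) (i : Fin Perm.data.n) :
    ((π (gen x) i : Fin Perm.data.n) : ℕ) = Perm.data.img (idx x) i := by
  rw [π, rep_of invol_ok wordsFor relNums_ok rels_covered x]
  exact PermData.genPerm_img invol_ok (idx_lt x) i

theorem π_word (w : List He.Gen) (i : Fin Perm.data.n) :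
    ((π ((w.map gen).prod) i : Fin Perm.data.n) : ℕ) = Perm.data.app (w.map idx).reverse i := by
  have h : π (w.map gen).prod = ((w.map idx).map (PermData.genPerm invol_ok)).prod := by
    rw [map_list_prod, List.map_map, List.map_map]
    refine congrArg List.prod (List.map_congr_left fun x _ => ?_)
    exact rep_of invol_ok wordsFor relNums_ok rels_covered x
  rw [h]
  refine PermData.prod_apply invol_ok (w.map idx) (fun k hk => ?_) i
  obtain ⟨x, -, rfl⟩ := List.mem_map.1 hk
  exact idx_lt x


end CfsgLib.Spor.He
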