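import Cfsg.Agent.Lib.Spor.He.Realization

/-!
A group isomorphic to the presented Held group contains `Sp(4,4)` extended by an involution.
-/

namespace CfsgLib.Spor.He

open CfsgLib.PresCert Cfsg.Spor

/-- A group isomorphic to He has a subgroup with a normal index-two subgroup `Sp(4,4)`. -/
theorem sp44_of_isoHe {G : Type*} [Group G] (h : Cfsg.Spor.IsoHe G) :
    ∃ (H : Subgroup G) (N : Subgroup H) (K : Type) (_ : Field K) (_ : Fintype K),
      N.Normal ∧ N.index = 2 ∧ Fintype.card K = 4 ∧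
        Nonempty (N ≃* Matrix.symplecticGroup (Fin 2) K) := by
  obtain ⟨ψ⟩ := h
  obtain ⟨N, K, iK, iK', hN, h2, h4, ⟨iso⟩⟩ :=
    closure_eq_H ▸ CfsgLib.CharsMore.HeSp44.statement card_all_le
  let f : CfsgLib.Spor.He.H ≃* CfsgLib.Spor.He.H.map ψ.symm.toMonoidHom :=
    ψ.symm.subgroupMap _
  refine ⟨_, N.map f.toMonoidHom, K, iK, iK', hN.map _ f.surjective, ?_, h4,
    ⟨(f.subgroupMap N).symm.trans iso⟩⟩
  exact (Subgroup.index_map_equiv N f).trans h2

end CfsgLib.Spor.He
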