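import Cfsg.Agent.Lib.PresCert.Presented
import Cfsg.Prelude.Def_Spor_He

/-!
Relator words of the presented Held group and letters used for its subgroups.
-/

namespace CfsgLib.Spor.He

open CfsgLib.PresCert Cfsg.Spor

/-- the further relators as words -/
def extraW : List (List He.Gen) :=
  [[.e, .g, .f, .g, .f], [.e, .c, .b, .a, .c, .b, .a, .c, .b, .a],
   [.a, .d, .c, .d, .c, .d, .c, .d, .c, .d, .c],
   (List.replicate 4 [.c, .d, .f, .g]).flatten]

/-- numbering of the generators -/
def idx : He.Gen → ℕ
  | .a => 0 | .b => 1 | .c => 2 | .d => 3 | .e => 4 | .f => 5 | .g => 6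

/-- all letters -/
def allGens : List He.Gen := [.a, .b, .c, .d, .e, .f, .g]

theorem mem_allGens : ∀ x : He.Gen, x ∈ allGens := by intro x; cases x <;> simp [allGens]

theorem mem_nodes : ∀ x : He.Gen, x ∈ coxNodes He.edges := by
  intro x; cases x <;> decide

theorem wordsFor : WordsFor He.extra extraW := by
  intro Q _ f hf
  have hi : ∀ x, (f x)⁻¹ = f x := fun x => inv_eq_of_mul_eq_one_left (hf x)
  simp [He.extra, extraW, He.a, He.b, He.c, He.d, He.e, He.f, He.g, pow_succ,
    List.replicate_succ, hi, mul_assoc]

/-- all relator words -/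
def known : List (List He.Gen) := knownWords He.edges extraW

/-- a generator of the presented group -/
abbrev gen : He.Gen → Cfsg.Spor.He := pgen He.edges He.extra

/-- the central element of the subgroup on six letters that has to be shown trivial -/
def zWord : List He.Gen :=
  [.c, .d, .c, .d, .e, .d, .c, .d, .c, .d, .e, .d, .c, .d, .e]

theorem gen_known : ∀ w ∈ known, (w.map gen).prod = 1 := pgen_known mem_nodes wordsFor

theorem gen_sq (x : He.Gen) : gen x * gen x = 1 := pgen_sq mem_nodes x

theorem step_bound {C : Cert} {js : List Cert.Just} (V : Cert.Valid C js) (sel sub : List He.Gen)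
    {b : ℕ} (hsub : ∀ x ∈ sub, x ∈ sel)
    (hr : okRels C sel known .a = true) (hs : okSubs C sel (sub.map fun x => [x]) .a = true)
    (hK : CardLE (lettersGroup sub gen) b) : CardLE (lettersGroup sel gen) (C.n * b) := by
  have h := index_bound V gen_sq gen_known hr hs
  rw [wordsGroup_singletons] at h
  refine hK.step (Subgroup.closure_mono ?_) h
  rintro _ ⟨x, hx, rfl⟩
  exact ⟨x, hsub x hx, rfl⟩

end CfsgLib.Spor.He
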